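import Mathlib.RingTheory.Bialgebra.Basic
import Mathlib.Algebra.MvPolynomial.PDeriv
import Mathlib.LinearAlgebra.Dimension.Free
import Mathlib.LinearAlgebra.FiniteDimensional.Basic
import Mathlib.RingTheory.Nilpotent.Lemmas
import Mathlib.RingTheory.Noetherian.Nilpotent

/-! Bialgebras of height one over a field of characteristic `p`. -/

set_option autoImplicit false

universe u

namespace HeightOne

open MvPolynomial TensorProduct

section Deriv

variable {k B : Type*} [CommRing k] [CommRing B] [Algebra k B]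

theorem deriv_pow_mem (D : Derivation k B B) (I : Ideal B) :
    ∀ (d : ℕ) {a : B}, a ∈ I ^ (d + 1) → D a ∈ I ^ d
  | 0, a, _ => by simp
  | d + 1, a, ha => by
    rw [pow_succ] at ha
    induction ha using Submodule.mul_induction_on' with
    | mem_mul_mem x hx y hy =>
      rw [D.leibniz, smul_eq_mul, smul_eq_mul]
      refine add_mem (Ideal.mul_mem_right _ _ hx) ?_
      rw [pow_succ, mul_comm y]
      exact Ideal.mul_mem_mul (deriv_pow_mem D I d hx) hy
    | add x hx y hy h₁ h₂ => rw [map_add]; exact add_mem h₁ h₂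

end Deriv

section Poly

variable {k : Type u} [Field k] {n : ℕ}

/-- Iterated partial derivatives. -/
noncomputable def pd : List (Fin n) → MvPolynomial (Fin n) k →ₗ[k] MvPolynomial (Fin n) k
  | [] => LinearMap.id
  | j :: l => (pd l).comp (pderiv j).toLinearMap

theorem exists_pd (p : ℕ) [Fact p.Prime] [CharP k p] (d : ℕ) : ∀ e : Fin n →₀ ℕ, (∑ i, e i) = d → (∀ i, e i < p) →
    ∃ (l : List (Fin n)) (c : k), l.length = d ∧ c ≠ 0 ∧ ∀ f, constantCoeff (pd l f) = c * coeff e f := by
  induction d with
  | zero =>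
    intro e he _
    have : e = 0 := Finsupp.ext fun i => by
      simpa using (Finset.sum_eq_zero_iff.mp he) i (Finset.mem_univ i)
    exact ⟨[], 1, rfl, one_ne_zero, fun f => by simp [pd, this, constantCoeff_eq]⟩
  | succ d ih =>
    intro e he hlt
    obtain ⟨i, -, hi⟩ := Finset.exists_ne_zero_of_sum_ne_zero (he ▸ Nat.succ_ne_zero d : ∑ i, e i ≠ 0)
    let e' := e - Finsupp.single i 1
    have he' : e' + Finsupp.single i 1 = e := Finsupp.ext fun j => by
      by_cases h : j = i
      · subst h; simp [e']; omega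
      · simp [e', h]
    have hsum : ∑ j, e' j = d := by
      rw [← he'] at he
      simp only [Finsupp.add_apply, Finset.sum_add_distrib, Finsupp.single_apply, Finset.sum_ite_eq,
        Finset.mem_univ, if_true] at he
      omega
    obtain ⟨l, c, hl, hc, hf⟩ := ih e' hsum fun j => lt_of_le_of_lt (by simp [e']) (hlt j)
    have hne : ((e i : ℕ) : k) ≠ 0 := fun h => by
      rw [CharP.cast_eq_zero_iff k p] at h
      exact hi (Nat.eq_zero_of_dvd_of_lt h (hlt i))
    refine ⟨i :: l, c * (e i : k), by simp [hl], mul_ne_zero hc hne, fun f => ?_⟩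
    show constantCoeff (pd l (pderiv i f)) = _
    rw [hf, coeff_pderiv, he', show (e' i : k) + 1 = (e i : k) by
      rw [← Nat.cast_add_one]; congr 1; simp [e']; omega]
    ring

end Poly

variable {k : Type u} [Field k] {B : Type u} [CommRing B] [Bialgebra k B]


variable (k B) in
/-- The augmentation ideal. -/
noncomputable def aug : Ideal B := RingHom.ker (Bialgebra.counitAlgHom k B).toRingHom

theorem mem_aug {b : B} : b ∈ aug k B ↔ (Bialgebra.counitAlgHom k B) b = 0 := Iff.rfl

theorem sub_mem_aug (b : B) : b - algebraMap k B ((Bialgebra.counitAlgHom k B) b) ∈ aug k B := by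
  rw [mem_aug, map_sub, AlgHom.commutes, Algebra.algebraMap_self, RingHom.id_apply, sub_self]

/-- Contraction of the comultiplication with a functional. -/
noncomputable def contract (ξ : B →ₗ[k] k) : B ⊗[k] B →ₗ[k] B :=
  (TensorProduct.rid k B).toLinearMap.comp (ξ.lTensor B)

theorem contract_tmul (ξ : B →ₗ[k] k) (a b : B) : contract ξ (a ⊗ₜ[k] b) = ξ b • a := by
  simp [contract]

theorem contract_mul (ξ : B →ₗ[k] k) (hξ : ∀ a b, ξ (a * b) = (Bialgebra.counitAlgHom k B) a * ξ b + (Bialgebra.counitAlgHom k B) b * ξ a) (u v : B ⊗[k] B) :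
    contract ξ (u * v) = contract (Bialgebra.counitAlgHom k B).toLinearMap u * contract ξ v +
      contract (Bialgebra.counitAlgHom k B).toLinearMap v * contract ξ u := by
  induction u using TensorProduct.induction_on with
  | zero => simp
  | add x y hx hy => simp only [add_mul, map_add, mul_add, hx, hy]; ring
  | tmul a b =>
    induction v using TensorProduct.induction_on with
    | zero => simp
    | add x y hx hy => simp only [add_mul, map_add, mul_add, hx, hy]; ring
    | tmul c d =>
      simp only [Algebra.TensorProduct.tmul_mul_tmul, contract_tmul, AlgHom.toLinearMap_apply, hξ,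
        Algebra.smul_def, map_add, map_mul]
      ring

theorem contract_counit (a : B) : contract (Bialgebra.counitAlgHom k B).toLinearMap (Coalgebra.comul a) = a := by
  have h := Coalgebra.lTensor_counit_comul (R := k) a
  show (TensorProduct.rid k B) ((Coalgebra.counit (R := k) (A := B)).lTensor B (Coalgebra.comul a)) = a
  rw [h, TensorProduct.rid_tmul, one_smul]

/-- The invariant derivation attached to an infinitesimal functional. -/
noncomputable def deriv (ξ : B →ₗ[k] k) (hξ : ∀ a b, ξ (a * b) = (Bialgebra.counitAlgHom k B) a * ξ b + (Bialgebra.counitAlgHom k B) b * ξ a) : Derivation k B B :=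
  Derivation.mk' ((contract ξ).comp Coalgebra.comul) fun a b => by
    simp only [LinearMap.comp_apply, Bialgebra.comul_mul, contract_mul ξ hξ, contract_counit, smul_eq_mul]

theorem counit_deriv (ξ : B →ₗ[k] k) (hξ : ∀ a b, ξ (a * b) = (Bialgebra.counitAlgHom k B) a * ξ b + (Bialgebra.counitAlgHom k B) b * ξ a) (a : B) :
    (Bialgebra.counitAlgHom k B) (deriv ξ hξ a) = ξ a := by
  have key : ∀ t : B ⊗[k] B, (Bialgebra.counitAlgHom k B) (contract ξ t) =
      ξ (TensorProduct.lid k B ((Coalgebra.counit (R := k) (A := B)).rTensor B t)) := fun t => by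
    induction t using TensorProduct.induction_on with
    | zero => simp
    | add x y hx hy => simp only [map_add, hx, hy]
    | tmul a b => simp [contract_tmul, mul_comm]
  show (Bialgebra.counitAlgHom k B) (contract ξ (Coalgebra.comul a)) = ξ a
  rw [key, Coalgebra.rTensor_counit_comul, TensorProduct.lid_tmul, one_smul]

variable {n : ℕ} (x : Fin n → B) (hx : ∀ i, x i ∈ aug k B) (ξ : Fin n → B →ₗ[k] k)
  (hξ : ∀ j a b, ξ j (a * b) = (Bialgebra.counitAlgHom k B) a * ξ j b + (Bialgebra.counitAlgHom k B) b * ξ j a) (hδ : ∀ i j, ξ j (x i) = if i = j then 1 else 0)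

/-- Iterated invariant derivations. -/
noncomputable def dd : List (Fin n) → B →ₗ[k] B
  | [] => LinearMap.id
  | j :: l => (dd l).comp (deriv (ξ j) (hξ j)).toLinearMap

include hξ in
theorem dd_mem : ∀ (l : List (Fin n)) (d : ℕ) {a : B}, a ∈ aug k B ^ (d + l.length) → dd ξ hξ l a ∈ aug k B ^ d
  | [], d, a, ha => by simpa [dd] using ha
  | j :: l, d, a, ha => dd_mem l d (deriv_pow_mem (deriv (ξ j) (hξ j)) (aug k B) _ (by simpa [add_assoc] using ha))

theorem deriv_aeval (D : Derivation k B B) (f : MvPolynomial (Fin n) k) :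
    D (aeval x f) = ∑ i, aeval x (pderiv i f) * D (x i) := by
  induction f using MvPolynomial.induction_on with
  | C a => simp
  | add f g hf hg => simp only [map_add, hf, hg, add_mul, Finset.sum_add_distrib]
  | mul_X f j hf =>
    simp only [map_mul, aeval_X, Derivation.leibniz, smul_eq_mul, hf, Finset.mul_sum]
    rw [Finset.sum_congr rfl fun (i : Fin n) _ => show aeval x (f * pderiv i (X j) + X j * pderiv i f) * D (x i) =
        (if i = j then aeval x f * D (x i) else 0) + x j * (aeval x (pderiv i f) * D (x i)) by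
      rw [map_add, map_mul, map_mul, aeval_X, pderiv_X]
      by_cases h : i = j
      · subst h; simp; ring
      · rw [Pi.single_eq_of_ne (Ne.symm h), map_zero, if_neg h]; ring]
    rw [Finset.sum_add_distrib, Finset.sum_ite_eq', if_pos (Finset.mem_univ _)]

include hx in
theorem aeval_mem (d : ℕ) {f : MvPolynomial (Fin n) k} (hf : f ∈ Ideal.span (Set.range X) ^ d) :
    aeval x f ∈ aug k B ^ d := by
  have h := Ideal.mem_map_of_mem (aeval x : MvPolynomial (Fin n) k →ₐ[k] B).toRingHom hf
  rw [Ideal.map_pow, Ideal.map_span] at h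
  refine Ideal.pow_right_mono (Ideal.span_le.mpr ?_) d h
  rintro _ ⟨_, ⟨i, rfl⟩, rfl⟩
  simpa using hx i

include hx hξ hδ in
theorem counit_dd : ∀ (l : List (Fin n)) {f : MvPolynomial (Fin n) k}, f ∈ Ideal.span (Set.range X) ^ l.length →
    (Bialgebra.counitAlgHom k B) (dd ξ hξ l (aeval x f)) = constantCoeff (pd l f)
  | [], f, _ => by
    show (Bialgebra.counitAlgHom k B) (aeval x f) = constantCoeff f
    rw [← AlgHom.comp_apply, comp_aeval, show (fun i => (Bialgebra.counitAlgHom k B) (x i)) = 0 from funext fun i => mem_aug.mp (hx i)]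
    exact aeval_zero' f
  | j :: l, f, hf => by
    let D := deriv (ξ j) (hξ j)
    have hf' : ∀ i, pderiv i f ∈ Ideal.span (Set.range X) ^ l.length := fun i => deriv_pow_mem _ _ _ hf
    have hrest : D (aeval x f) - aeval x (pderiv j f) ∈ aug k B ^ (1 + l.length) := by
      rw [deriv_aeval, show aeval x (pderiv j f) = ∑ i, aeval x (pderiv i f) * (if i = j then (1 : B) else 0) by simp,
        ← Finset.sum_sub_distrib]
      refine Submodule.sum_mem _ fun i _ => ?_
      rw [← mul_sub, pow_add, pow_one, mul_comm (aeval x _)]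
      refine Ideal.mul_mem_mul ?_ (aeval_mem x hx _ (hf' i))
      rw [mem_aug, map_sub, counit_deriv, hδ, apply_ite (Bialgebra.counitAlgHom k B), map_one, map_zero, sub_self]
    show (Bialgebra.counitAlgHom k B) (dd ξ hξ l (D (aeval x f))) = constantCoeff (pd l (pderiv j f))
    have h := dd_mem ξ hξ l 1 hrest
    rw [pow_one, mem_aug, map_sub, map_sub, sub_eq_zero] at h
    rw [h, counit_dd l (hf' j)]

include hx hξ hδ in
/-- The monomials with exponents `< p` are linearly independent. -/
theorem eq_zero_of_aeval (p : ℕ) [Fact p.Prime] [CharP k p] {f : MvPolynomial (Fin n) k}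
    (hdeg : ∀ e ∈ f.support, ∀ i, e i < p) (h0 : aeval x f = 0) : f = 0 := by
  by_contra hne
  obtain ⟨e, he, hmin⟩ := Finset.exists_min_image f.support (fun e => ∑ i, e i) (support_nonempty.mpr hne)
  obtain ⟨l, c, hl, hc, hpd⟩ := exists_pd (k := k) p _ e rfl (hdeg e he)
  have hf : f ∈ Ideal.span (Set.range X) ^ l.length := by
    rw [as_sum f]
    refine Submodule.sum_mem _ fun v hv => ?_
    refine Ideal.pow_le_pow_right (hl ▸ hmin v hv) ?_
    rw [monomial_eq, Finsupp.prod_fintype _ _ (by simp), ← Finset.prod_pow_eq_pow_sum]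
    refine Ideal.mul_mem_left _ _ (Ideal.prod_mem_prod fun i _ => Ideal.pow_mem_pow ?_ _)
    exact Ideal.subset_span ⟨i, rfl⟩
  have := counit_dd x hx ξ hξ hδ l hf
  rw [h0, map_zero, map_zero, hpd] at this
  exact mul_ne_zero hc (mem_support_iff.mp he) this.symm

omit x ξ in
/-- A basis of the cotangent space at the unit, with dual functionals; the monomials in the former span. -/
theorem exists_coords [FiniteDimensional k B] (p : ℕ) (hnil : ∀ b ∈ aug k B, b ^ p = 0) :
    ∃ (n : ℕ) (x : Fin n → B) (ξ : Fin n → B →ₗ[k] k), (∀ i, x i ∈ aug k B) ∧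
      (∀ j a b, ξ j (a * b) = (Bialgebra.counitAlgHom k B) a * ξ j b + (Bialgebra.counitAlgHom k B) b * ξ j a) ∧
      (∀ i j, ξ j (x i) = if i = j then 1 else 0) ∧
      Function.Surjective (aeval x : MvPolynomial (Fin n) k →ₐ[k] B) := by
  classical
  let I := aug k B
  let W : Submodule k B := I.restrictScalars k
  let W2 : Submodule k W := ((I ^ 2).restrictScalars k).comap W.subtype
  let b := Module.finBasis k (W ⧸ W2)
  choose y hy using fun i => Submodule.mkQ_surjective W2 (b i)
  let proj : B →ₗ[k] W :=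
    LinearMap.codRestrict W (LinearMap.id - (Algebra.linearMap k B).comp (Bialgebra.counitAlgHom k B).toLinearMap)
      fun a => sub_mem_aug a
  have hprojmem : ∀ w : W, proj (w : B) = w := fun w => Subtype.ext (by
    show (w : B) - algebraMap k B ((Bialgebra.counitAlgHom k B) (w : B)) = w
    rw [mem_aug.mp w.2, map_zero, sub_zero])
  refine ⟨_, fun i => (y i : B), fun j => (b.coord j).comp ((Submodule.mkQ W2).comp proj), fun i => (y i).2,
    fun j a c => ?_, fun i j => ?_, ?_⟩
  · have : Submodule.mkQ W2 (proj (a * c)) = (Bialgebra.counitAlgHom k B) a • Submodule.mkQ W2 (proj c) + (Bialgebra.counitAlgHom k B) c • Submodule.mkQ W2 (proj a) := by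
      rw [← map_smul (Submodule.mkQ W2), ← map_smul (Submodule.mkQ W2), ← map_add, Submodule.mkQ_apply, Submodule.mkQ_apply, Submodule.Quotient.eq]
      show (a * c - algebraMap k B ((Bialgebra.counitAlgHom k B) (a * c))) - ((Bialgebra.counitAlgHom k B) a • (c - algebraMap k B ((Bialgebra.counitAlgHom k B) c)) + (Bialgebra.counitAlgHom k B) c • (a - algebraMap k B ((Bialgebra.counitAlgHom k B) a))) ∈ I ^ 2
      rw [show (a * c - algebraMap k B ((Bialgebra.counitAlgHom k B) (a * c))) - ((Bialgebra.counitAlgHom k B) a • (c - algebraMap k B ((Bialgebra.counitAlgHom k B) c)) + (Bialgebra.counitAlgHom k B) c • (a - algebraMap k B ((Bialgebra.counitAlgHom k B) a))) =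
        (a - algebraMap k B ((Bialgebra.counitAlgHom k B) a)) * (c - algebraMap k B ((Bialgebra.counitAlgHom k B) c)) by
          simp only [map_mul, Algebra.smul_def]; ring, pow_two]
      exact Ideal.mul_mem_mul (sub_mem_aug a) (sub_mem_aug c)
    simp only [LinearMap.comp_apply, this, map_add, map_smul, smul_eq_mul]
  · simp only [LinearMap.comp_apply, hprojmem, hy, Module.Basis.coord_apply, Module.Basis.repr_self,
      Finsupp.single_apply]
  · intro z
    let S := (aeval fun i => (y i : B) : MvPolynomial (Fin (Module.finrank k (W ⧸ W2))) k →ₐ[k] B).range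
    show z ∈ S
    have h1 : ∀ w ∈ I, ∃ s ∈ S, s ∈ I ∧ w - s ∈ I ^ 2 := fun w hw => by
      refine ⟨∑ i, b.repr (Submodule.mkQ W2 ⟨w, hw⟩) i • (y i : B),
        Subalgebra.sum_mem _ fun i _ => Subalgebra.smul_mem _ (show ((y i : B)) ∈ S from ⟨X i, aeval_X _ i⟩) _,
        Submodule.sum_mem _ fun i _ => Submodule.smul_of_tower_mem _ _ (y i).2, ?_⟩
      have : (⟨w, hw⟩ : W) - ∑ i, b.repr (Submodule.mkQ W2 ⟨w, hw⟩) i • y i ∈ W2 := by
        rw [← Submodule.Quotient.eq, ← Submodule.mkQ_apply, ← Submodule.mkQ_apply, map_sum]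
        simp only [map_smul, hy, b.sum_repr]
      simpa [W2] using this
    have h2 : ∀ m : ℕ, ∀ w ∈ I ^ (m + 1), ∃ s ∈ S, s ∈ I ^ (m + 1) ∧ w - s ∈ I ^ (m + 2) := by
      intro m
      induction m with
      | zero => simpa using h1
      | succ m ih =>
        intro w hw
        rw [pow_succ] at hw
        induction hw using Submodule.mul_induction_on' with
        | mem_mul_mem u hu v hv =>
          obtain ⟨s, hs, hsI, hs'⟩ := ih u hu
          obtain ⟨t, ht, htI, ht'⟩ := h1 v hv
          refine ⟨s * t, S.mul_mem hs ht, by rw [pow_succ]; exact Ideal.mul_mem_mul hsI htI, ?_⟩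
          rw [show u * v - s * t = (u - s) * v + s * (v - t) by ring]
          refine add_mem ?_ ?_
          · rw [pow_succ]; exact Ideal.mul_mem_mul hs' hv
          · have := Ideal.mul_mem_mul hsI ht'
            rwa [← pow_add] at this
        | add u hu v hv h₁ h₂ =>
          obtain ⟨s, hs, hsI, hs'⟩ := h₁
          obtain ⟨t, ht, htI, ht'⟩ := h₂
          exact ⟨s + t, S.add_mem hs ht, add_mem hsI htI, by rw [add_sub_add_comm]; exact add_mem hs' ht'⟩
    have h3 : ∀ m : ℕ, ∃ s ∈ S, z - s ∈ I ^ (m + 1) := by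
      intro m
      induction m with
      | zero => exact ⟨_, S.algebraMap_mem ((Bialgebra.counitAlgHom k B) z), by rw [pow_one]; exact sub_mem_aug z⟩
      | succ m ih =>
        obtain ⟨s, hs, hzs⟩ := ih
        obtain ⟨t, ht, -, ht'⟩ := h2 m _ hzs
        exact ⟨s + t, S.add_mem hs ht, by rwa [← sub_sub]⟩
    haveI : IsNoetherianRing B := isNoetherian_of_tower k inferInstance
    obtain ⟨N, hN⟩ := (Ideal.FG.isNilpotent_iff_le_nilradical (IsNoetherian.noetherian I)).mpr
      fun w hw => ⟨p, hnil w hw⟩
    obtain ⟨s, hs, hzs⟩ := h3 N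
    rw [pow_succ, hN, Submodule.zero_eq_bot, Ideal.bot_mul, Ideal.mem_bot, sub_eq_zero] at hzs
    rwa [hzs]

end HeightOne
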